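import Cfsg.Agent.H755.Spec.TrForm
import Cfsg.Agent.H373.Outer
import Cfsg.Agent.ClassicalGeometry.PSUAutMain

/-!
# A torus of `GU (2 m) F 3` and a semilinear isometry centralizing an element of it (helper755, for S3464)
-/

set_option autoImplicit false
set_option linter.unusedSectionVars false

namespace Cfsg.Agent.H755.SU3

open Matrix Cfsg Cfsg.Agent.LieClassical.HermBasic Cfsg.Agent.LieClassical.HermSiegel
open Cfsg.Agent.ClassicalGeometry.PSUAutCount (gm semiConj toAut gm_mul gm_one gm_mul_inv gm_inv_mul eq_of_toAut_eq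
  sc gm_sc_mul toAut_sc_mul herm_gm act_semiConj herm_semi gm_mulVec_inv gm_inv_mulVec gm_inj herm_map)
open Cfsg.Agent.LieClassical.GUOrder (mkGU coe_mkGU)

section Transfer

variable {F K : Type*} [Field F] [Fintype F] [Field K] [Algebra F K] [Finite K] {n : ℕ}

/-- The isometry with the standard space. -/
theorem exists_std (hF : Fintype.card F = 9) (hn : Module.finrank F K + Module.finrank F K = n) :
    ∃ ψ : (K × K) ≃ₗ[F] (Fin n → F), ∀ u v, hermForm n F 3 (ψ u) (ψ v) = B K hF v u := by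
  have : FiniteDimensional F K := Module.Finite.of_finite
  obtain ⟨b, hb⟩ := Cfsg.Agent.ClassicalGeometry.HermOrthonormal.exists_orthonormal_basis (cube_ne hF) (cube_cube hF)
    (B K hF) (B_symm hF) (B_sep hF)
  have hd : Module.finrank F (K × K) = n := by rw [Module.finrank_prod, hn]
  let b' := b.reindex (finCongr hd)
  have hb' : ∀ i j, B K hF (b' i) (b' j) = if i = j then 1 else 0 := by
    intro i j
    have h1 := hb ((finCongr hd).symm i) ((finCongr hd).symm j)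
    simp only [b', Module.Basis.reindex_apply]
    rw [h1]
    simp only [EmbeddingLike.apply_eq_iff_eq]
  refine ⟨b'.equivFun, fun u v => ?_⟩
  conv_rhs => rw [← b'.sum_equivFun u, ← b'.sum_equivFun v]
  rw [LinearMap.map_sum₂]
  unfold hermForm
  refine Finset.sum_congr rfl fun i _ => ?_
  rw [LinearMap.map_smulₛₗ₂, map_sum]
  have h1 : ∀ j, B K hF (b' i) (b'.equivFun u j • b' j) = if i = j then b'.equivFun u j else 0 := by
    intro j
    rw [map_smul, hb', smul_eq_mul, mul_ite, mul_one, mul_zero]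
  rw [Finset.sum_congr rfl fun j _ => h1 j, Finset.sum_ite_eq, if_pos (Finset.mem_univ i), smul_eq_mul, cube_apply,
    mul_comm]

variable (hF : Fintype.card F = 9)

theorem hF2 (hF : Fintype.card F = 9) : Fintype.card F = 3 ^ 2 := by rw [hF]; norm_num

/-- The element of `GU` given by an isometry. -/
noncomputable def gu (hF : Fintype.card F = 9) {ψ : (K × K) ≃ₗ[F] (Fin n → F)}
    (hψ : ∀ u v, hermForm n F 3 (ψ u) (ψ v) = B K hF v u)
    (T : (K × K) →ₗ[F] (K × K)) (hT : ∀ u v, B K hF (T u) (T v) = B K hF u v) : GU n F 3 :=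
  mkGU (hF2 hF) (LinearMap.toMatrix' ((ψ : (K × K) →ₗ[F] (Fin n → F)) ∘ₗ T ∘ₗ (ψ.symm : (Fin n → F) →ₗ[F] (K × K)))) (by
    intro u v
    rw [LinearMap.toMatrix'_mulVec, LinearMap.toMatrix'_mulVec]
    show hermForm n F 3 (ψ (T (ψ.symm u))) (ψ (T (ψ.symm v))) = _
    rw [hψ, hT, ← hψ, ψ.apply_symm_apply, ψ.apply_symm_apply])

theorem gm_gu {ψ : (K × K) ≃ₗ[F] (Fin n → F)} (hψ : ∀ u v, hermForm n F 3 (ψ u) (ψ v) = B K hF v u)
    (T : (K × K) →ₗ[F] (K × K)) (hT : ∀ u v, B K hF (T u) (T v) = B K hF u v) (u : K × K) :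
    gm (gu hF hψ T hT) *ᵥ (ψ u) = ψ (T u) := by
  show LinearMap.toMatrix' _ *ᵥ _ = _
  rw [LinearMap.toMatrix'_mulVec]
  show ψ (T (ψ.symm (ψ u))) = _
  rw [ψ.symm_apply_apply]

theorem det_gu {ψ : (K × K) ≃ₗ[F] (Fin n → F)} (hψ : ∀ u v, hermForm n F 3 (ψ u) (ψ v) = B K hF v u)
    (T : (K × K) →ₗ[F] (K × K)) (hT : ∀ u v, B K hF (T u) (T v) = B K hF u v) :
    (gm (gu hF hψ T hT)).det = LinearMap.det T := by
  show (LinearMap.toMatrix' _).det = _
  rw [LinearMap.det_toMatrix', LinearMap.det_conj]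

/-- The torus. -/
noncomputable def tor (F : Type*) [Field F] {K : Type*} [Field K] [Algebra F K] (s : Kˣ) : (K × K) →ₗ[F] (K × K) :=
  LinearMap.prodMap (Algebra.lmul F K (((s ^ 3)⁻¹ : Kˣ) : K)) (Algebra.lmul F K ((s : Kˣ) : K))

theorem tor_apply (s : Kˣ) (u : K × K) : tor F s u = ((((s ^ 3)⁻¹ : Kˣ) : K) * u.1, (s : K) * u.2) := rfl

theorem B_tor (s : Kˣ) (u v : K × K) : B K hF (tor F s u) (tor F s v) = B K hF u v := by
  have hs : ((s : K) ^ 3)⁻¹ * (s : K) ^ 3 = 1 := inv_mul_cancel₀ (pow_ne_zero 3 s.ne_zero)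
  rw [B_apply, B_apply, tor_apply, tor_apply]
  have h : (((s ^ 3)⁻¹ : Kˣ) : K) = ((s : K) ^ 3)⁻¹ := by
    rw [Units.val_inv_eq_inv_val, Units.val_pow_eq_pow_val]
  rw [h]
  generalize ((s : K) ^ 3)⁻¹ = a at hs
  congr 1
  · congr 1
    show a * v.1 * ((s : K) * u.2) ^ 3 = _
    linear_combination (v.1 * u.2 ^ 3) * hs
  · congr 1
    show (a * u.1) ^ 3 * ((s : K) * v.2) ^ 9 = _
    have h2 : a ^ 3 * (s : K) ^ 9 = 1 := by
      have : a ^ 3 * (s : K) ^ 9 = (a * (s : K) ^ 3) ^ 3 := by ring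
      rw [this, hs, one_pow]
    linear_combination (u.1 ^ 3 * v.2 ^ 9) * h2

include hF in
theorem det_tor (s : Kˣ) : LinearMap.det (tor F s) = (Algebra.norm F (s : K)) ^ 6 := by
  rw [tor, LinearMap.det_prodMap, ← Algebra.norm_apply, ← Algebra.norm_apply]
  have h0 : Algebra.norm F (s : K) ≠ 0 := by
    have : FiniteDimensional F K := Module.Finite.of_finite
    exact (Algebra.norm_ne_zero_iff).2 s.ne_zero
  have h1 : Algebra.norm F (((s ^ 3)⁻¹ : Kˣ) : K) * (Algebra.norm F (s : K)) ^ 3 = 1 := by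
    rw [← map_pow, ← map_mul, ← Units.val_pow_eq_pow_val, ← Units.val_mul, inv_mul_cancel, Units.val_one, map_one]
  have h2 : (Algebra.norm F (s : K)) ^ 8 = 1 := by
    have := pow_nine hF (Algebra.norm F (s : K))
    have h3 : (Algebra.norm F (s : K)) ^ 8 * (Algebra.norm F (s : K)) = 1 * (Algebra.norm F (s : K)) := by
      rw [← pow_succ, this, one_mul]
    exact mul_right_cancel₀ h0 h3
  generalize Algebra.norm F (s : K) = a at *
  generalize Algebra.norm F (((s ^ 3)⁻¹ : Kˣ) : K) = b at *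
  have h3 : a ^ 3 * (b * a) = a ^ 3 * a ^ 6 := by
    linear_combination a * h1 - a * h2
  exact mul_left_cancel₀ (pow_ne_zero 3 h0) h3

/-- The semilinear isometry. -/
def sl (j : ℕ) (u : K × K) : K × K := (u.2 ^ 3 ^ (4 * j + 3), u.1 ^ 3 ^ (4 * j + 1))

theorem B_sl (j : ℕ) (u v : K × K) : B K hF (sl j u) (sl j v) = (B K hF u v) ^ 3 := by
  rw [B_apply, B_apply, add_cube (F := F) (K := F) hF, ← tr_cube hF, ← tr_cube hF, add_comm]
  have e : (9 : ℕ) ^ (2 * j + 1) = 3 ^ (4 * j + 2) := by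
    rw [show (9 : ℕ) = 3 ^ 2 by norm_num, ← pow_mul]; congr 1; ring
  congr 1
  · show Algebra.trace F K ((u.2 ^ 3 ^ (4 * j + 3)) ^ 3 * (v.1 ^ 3 ^ (4 * j + 1)) ^ 9) = _
    rw [← tr_nine_pow hF ((v.1 * u.2 ^ 3) ^ 3) (2 * j + 1), e]
    congr 1
    rw [← pow_mul, ← pow_mul, ← pow_mul, mul_pow, ← pow_mul, mul_comm]
    congr 1
    · congr 1
      rw [show (9 : ℕ) = 3 * 3 by norm_num, ← mul_assoc, ← pow_succ]
      ring
    · congr 1
      ring
  · show Algebra.trace F K (v.2 ^ 3 ^ (4 * j + 3) * (u.1 ^ 3 ^ (4 * j + 1)) ^ 3) = _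
    rw [show (u.1 ^ 3 * v.2 ^ 9) ^ 3 = (u.1 * v.2 ^ 3) ^ 9 by ring, tr_nine hF,
      ← tr_nine_pow hF (u.1 * v.2 ^ 3) (2 * j + 1), e]
    congr 1
    rw [mul_pow, ← pow_mul, ← pow_mul, mul_comm, ← pow_succ, ← pow_succ']

include hF in
theorem sl_smul (j : ℕ) (c : F) (u : K × K) : sl j (c • u) = c ^ 3 • sl j u := by
  have h : ∀ k : ℕ, c ^ 3 ^ (2 * k + 1) = c ^ 3 := by
    intro k
    rw [pow_succ, pow_mul, pow_mul 3 2 k, show (3 : ℕ) ^ 2 = 9 by norm_num, pow_nine_pow hF]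
  apply Prod.ext
  · show (c • u.2) ^ 3 ^ (4 * j + 3) = c ^ 3 • u.2 ^ 3 ^ (4 * j + 3)
    rw [smul_pow, show 4 * j + 3 = 2 * (2 * j + 1) + 1 by ring, h]
  · show (c • u.1) ^ 3 ^ (4 * j + 1) = c ^ 3 • u.1 ^ 3 ^ (4 * j + 1)
    rw [smul_pow, show 4 * j + 1 = 2 * (2 * j) + 1 by ring, h]

include hF in
theorem sl_add (j : ℕ) (u v : K × K) : sl j (u + v) = sl j u + sl j v := by
  have := charP_three hF
  have := Fact.mk Nat.prime_three
  have : CharP K 3 := charP_of_injective_algebraMap (algebraMap F K).injective 3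
  apply Prod.ext
  · exact add_pow_char_pow _ _ 3 _
  · exact add_pow_char_pow _ _ 3 _

theorem exists_slGU {ψ : (K × K) ≃ₗ[F] (Fin n → F)} (hψ : ∀ u v, hermForm n F 3 (ψ u) (ψ v) = B K hF v u)
    {ρ : F ≃+* F} (hρ : ∀ a, ρ a = a ^ 3) (j : ℕ) :
    ∃ A : GU n F 3, ∀ u, gm A *ᵥ (fun i => ρ (ψ u i)) = ψ (sl j u) := by
  have hρ3 : ∀ a, (ρ.symm a) ^ 3 = a := fun a => by rw [← hρ, ρ.apply_symm_apply]
  let L : (Fin n → F) →ₗ[F] (Fin n → F) :=
    { toFun := fun w => ψ (sl j (ψ.symm fun i => ρ.symm (w i)))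
      map_add' := fun w w' => by
        have h : (fun i => ρ.symm ((w + w') i)) = (fun i => ρ.symm (w i)) + fun i => ρ.symm (w' i) := by
          funext i; simp
        rw [h, map_add, sl_add hF, map_add]
      map_smul' := fun c w => by
        have h : (fun i => ρ.symm ((c • w) i)) = (ρ.symm c) • fun i => ρ.symm (w i) := by
          funext i; simp
        rw [h, map_smul, sl_smul hF, map_smul, hρ3, RingHom.id_apply] }
  have hL : ∀ u v, hermForm n F 3 (L u) (L v) = hermForm n F 3 u v := by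
    intro u v
    show hermForm n F 3 (ψ _) (ψ _) = _
    rw [hψ, B_sl hF, ← hψ, ψ.apply_symm_apply, ψ.apply_symm_apply, ← hρ, ← herm_map]
    simp only [RingEquiv.apply_symm_apply]
  refine ⟨mkGU (hF2 hF) (LinearMap.toMatrix' L) (fun u v => by
    rw [LinearMap.toMatrix'_mulVec, LinearMap.toMatrix'_mulVec, hL]), fun u => ?_⟩
  show LinearMap.toMatrix' L *ᵥ _ = _
  rw [LinearMap.toMatrix'_mulVec]
  show ψ (sl j (ψ.symm fun i => ρ.symm (ρ (ψ u i)))) = _
  simp only [RingEquiv.symm_apply_apply, LinearEquiv.symm_apply_apply]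

include hF in
theorem exists_norm_six {δ : F} (hδ : δ ^ 4 = 1) : ∃ s : Kˣ, (Algebra.norm F (s : K)) ^ 6 = δ := by
  have : FiniteDimensional F K := Module.Finite.of_finite
  have hδ0 : δ ≠ 0 := by
    rintro rfl
    norm_num at hδ
  obtain ⟨g, hg⟩ := IsCyclic.exists_generator (α := Fˣ)
  have hgo : orderOf g = 8 := by
    rw [orderOf_eq_card_of_forall_mem_zpowers hg, Nat.card_units, Nat.card_eq_fintype_card, hF]
  obtain ⟨i, hi⟩ := (mem_powers_iff_mem_zpowers.2 (hg (Units.mk0 δ hδ0)))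
  have hi' : g ^ i = Units.mk0 δ hδ0 := hi
  have h1 : g ^ (i * 4) = 1 := by
    rw [pow_mul, hi']
    apply Units.ext
    rw [Units.val_pow_eq_pow_val, Units.val_mk0, hδ, Units.val_one]
  have h2 : 8 ∣ i * 4 := by rw [← hgo]; exact orderOf_dvd_of_pow_eq_one h1
  obtain ⟨k, hk⟩ : ∃ k, i = 2 * k := ⟨i / 2, by omega⟩
  obtain ⟨s, hs⟩ := FiniteField.unitsMap_norm_surjective F K (g ^ (3 * k))
  refine ⟨s, ?_⟩
  have h3 : Algebra.norm F (s : K) = ((g ^ (3 * k) : Fˣ) : F) := by rw [← hs]; rfl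
  rw [h3, ← Units.val_pow_eq_pow_val, ← pow_mul, show 3 * k * 6 = 8 * (2 * k) + 2 * k by ring, pow_add, pow_mul, ← hgo,
    pow_orderOf_eq_one, one_pow, one_mul, ← hk, hi', Units.val_mk0]

end Transfer

section Model

variable {F : Type*} [Field F] [Fintype F] {n : ℕ}

/-- **The model.** -/
theorem exists_model (hF : Fintype.card F = 9) {j : ℕ} (hn : n = 8 * j + 4) {r : ℕ} (hr : r.Prime) (hr2 : r ≠ 2)
    (hrd : r ∣ 3 ^ (4 * j + 2) + 1) :
    ∃ y : SU n F 3, orderOf y = r ∧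
      (∀ δ : F, δ ^ 4 = 1 → ∃ A : GU n F 3, (gm A).det = δ ∧ semiConj A 1 y = y) ∧
      (∀ ρ : F ≃+* F, (∀ a, ρ a = a ^ 3) → ∀ δ : F, δ ^ 4 = 1 → ∃ A : GU n F 3, (gm A).det = δ ∧ semiConj A ρ y = y) := by
  have := charP_three hF
  have := Fact.mk Nat.prime_three
  have : NeZero (4 * j + 2) := ⟨by omega⟩
  let K := FiniteField.Extension F 3 (4 * j + 2)
  have hfin : Module.finrank F K = 4 * j + 2 := FiniteField.finrank_extension F 3 (4 * j + 2)
  have hcard : Nat.card K = 9 ^ (4 * j + 2) := by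
    rw [← hF, ← Nat.card_eq_fintype_card]
    exact FiniteField.natCard_extension F 3 (4 * j + 2)
  have hfK : Finite K := Nat.finite_of_card_ne_zero (by rw [hcard]; positivity)
  obtain ⟨ψ, hψ⟩ := exists_std (K := K) hF (n := n) (by rw [hfin, hn]; ring)
  -- the element `θ`
  obtain ⟨θ, hθ⟩ : ∃ θ : Kˣ, orderOf θ = r := by
    have := Fact.mk hr
    have hfu : Fintype Kˣ := Fintype.ofFinite _
    apply exists_prime_orderOf_dvd_card r
    rw [← Nat.card_eq_fintype_card, Nat.card_units, hcard]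
    have e : 9 ^ (4 * j + 2) - 1 = (3 ^ (4 * j + 2) + 1) * (3 ^ (4 * j + 2) - 1) := by
      have := Nat.sq_sub_sq (3 ^ (4 * j + 2)) 1
      rw [one_pow, ← pow_mul, mul_comm (4 * j + 2) 2, pow_mul] at this
      exact this
    rw [e]
    exact hrd.mul_right _
  have hθm : θ ^ (3 ^ (4 * j + 2) + 1) = 1 := by
    rw [← orderOf_dvd_iff_pow_eq_one, hθ]; exact hrd
  have hN : Algebra.norm F (θ : K) = 1 := by
    have h0 : Algebra.norm F (θ : K) ≠ 0 := by
      have : FiniteDimensional F K := Module.Finite.of_finite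
      exact (Algebra.norm_ne_zero_iff).2 θ.ne_zero
    have h1 : (Units.mk0 _ h0) ^ r = 1 := by
      apply Units.ext
      rw [Units.val_pow_eq_pow_val, Units.val_mk0, ← map_pow, ← Units.val_pow_eq_pow_val, ← hθ, pow_orderOf_eq_one,
        Units.val_one, map_one, Units.val_one]
    have h2 : (Units.mk0 _ h0) ^ 8 = 1 := by
      have : Nat.card Fˣ = 8 := by rw [Nat.card_units, Nat.card_eq_fintype_card, hF]
      rw [← this]
      exact pow_card_eq_one'
    have h3 : orderOf (Units.mk0 _ h0) ∣ Nat.gcd r 8 := Nat.dvd_gcd (orderOf_dvd_of_pow_eq_one h1) (orderOf_dvd_of_pow_eq_one h2)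
    have h4 : Nat.gcd r 8 = 1 := by
      have : Nat.Coprime r (2 ^ 3) := Nat.Coprime.pow_right 3 ((Nat.coprime_primes hr Nat.prime_two).2 hr2)
      exact this
    rw [h4] at h3
    have h5 := orderOf_eq_one_iff.1 (Nat.dvd_one.1 h3)
    have h6 := congrArg (fun a : Fˣ => (a : F)) h5
    exact h6
  have hdθ : (gm (gu hF hψ (tor F θ) (B_tor hF θ))).det = 1 := by
    rw [det_gu, det_tor hF, hN, one_pow]
  let y : SU n F 3 := mkSU (gm (gu hF hψ (tor F θ) (B_tor hF θ))) hdθ (fun u v => herm_gm _ u v)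
  have hy : ∀ u, act y (ψ u) = ψ (tor F θ u) := fun u => gm_gu hF hψ _ (B_tor hF θ) u
  -- centralizing
  have key : ∀ (A : GU n F 3) (ρ : F ≃+* F) (G : K × K → K × K), (∀ u, gm A *ᵥ (fun i => ρ (ψ u i)) = ψ (G u)) →
      (∀ u, G (tor F θ u) = tor F θ (G u)) → semiConj A ρ y = y := by
    intro A ρ G hA hG
    apply ext_act
    intro x
    have hx : x = gm A *ᵥ fun i => ρ (ψ (ψ.symm fun i => ρ.symm ((gm A⁻¹ *ᵥ x) i)) i) := by
      simp only [LinearEquiv.apply_symm_apply, RingEquiv.apply_symm_apply]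
      exact (gm_mulVec_inv A x).symm
    generalize (ψ.symm fun i => ρ.symm ((gm A⁻¹ *ᵥ x) i)) = u at hx
    rw [hx, act_semiConj, hy, hA, hA, hG, hy]
  refine ⟨y, ?_, ?_, ?_⟩
  · have hpow : ∀ k : ℕ, ∀ u, act (y ^ k) (ψ u) = ψ (tor F (θ ^ k) u) := by
      intro k
      induction k with
      | zero =>
        intro u
        rw [pow_zero, pow_zero, act_one, tor_apply]
        congr 1
        apply Prod.ext
        · show u.1 = (((1 ^ 3)⁻¹ : Kˣ) : K) * u.1
          rw [one_pow, inv_one, Units.val_one, one_mul]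
        · show u.2 = ((1 : Kˣ) : K) * u.2
          rw [Units.val_one, one_mul]
      | succ k ih =>
        intro u
        rw [pow_succ, act_mul, hy, ih]
        congr 1
        rw [tor_apply, tor_apply, tor_apply]
        apply Prod.ext
        · show ((((θ ^ k) ^ 3)⁻¹ : Kˣ) : K) * ((((θ ^ 3)⁻¹ : Kˣ) : K) * u.1) = ((((θ ^ (k + 1)) ^ 3)⁻¹ : Kˣ) : K) * u.1
          rw [← mul_assoc, ← Units.val_mul, ← mul_inv, ← mul_pow, ← pow_succ]
        · show ((θ ^ k : Kˣ) : K) * ((θ : K) * u.2) = ((θ ^ (k + 1) : Kˣ) : K) * u.2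
          rw [← mul_assoc, ← Units.val_mul, ← pow_succ]
    have := Fact.mk hr
    refine orderOf_eq_prime ?_ ?_
    · apply ext_act
      intro x
      have h1 := hpow r (ψ.symm x)
      rw [ψ.apply_symm_apply, ← hθ, pow_orderOf_eq_one] at h1
      have h2 := hpow 0 (ψ.symm x)
      rw [ψ.apply_symm_apply, pow_zero, pow_zero] at h2
      rw [← hθ, h1, ← h2]
    · intro h
      have h1 := hy (0, 1)
      rw [h, act_one] at h1
      have h2 := congrArg Prod.snd (ψ.injective h1)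
      have h3 : (1 : K) = (θ : K) * 1 := h2
      rw [mul_one] at h3
      have h4 : θ = 1 := Units.ext h3.symm
      rw [h4, orderOf_one] at hθ
      exact hr.one_lt.ne hθ
  · intro δ hδ
    obtain ⟨s, hs⟩ := exists_norm_six (K := K) hF hδ
    refine ⟨gu hF hψ (tor F s) (B_tor hF s), by rw [det_gu, det_tor hF, hs], key _ 1 (tor F s) (fun u => ?_) (fun u => ?_)⟩
    · exact gm_gu hF hψ _ (B_tor hF s) u
    · rw [tor_apply, tor_apply, tor_apply, tor_apply]
      apply Prod.ext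
      · exact mul_left_comm _ _ _
      · exact mul_left_comm _ _ _
  · intro ρ hρ δ hδ
    obtain ⟨A₀, hA₀⟩ := exists_slGU hF hψ hρ j
    have hdA : (gm A₀).det ^ 4 = 1 := by
      have := Cfsg.Agent.H373.Outer.det_unit (hF2 hF) A₀
      rw [← pow_succ'] at this
      exact this
    have hd0 : (gm A₀).det ≠ 0 := Cfsg.Agent.H373.Outer.det_ne A₀
    obtain ⟨s, hs⟩ := exists_norm_six (K := K) hF (δ := δ * (gm A₀).det⁻¹) (by
      rw [mul_pow, inv_pow, hδ, hdA, inv_one, mul_one])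
    refine ⟨gu hF hψ (tor F s) (B_tor hF s) * A₀, ?_, key _ ρ (fun u => tor F s (sl j u)) (fun u => ?_) (fun u => ?_)⟩
    · rw [gm_mul, det_mul, det_gu, det_tor hF, hs, inv_mul_cancel_right₀ hd0]
    · rw [gm_mul, ← mulVec_mulVec, hA₀]
      exact gm_gu hF hψ _ (B_tor hF s) _
    · have h1 : ∀ a : K, ((((θ ^ 3)⁻¹ : Kˣ) : K) * a) ^ 3 ^ (4 * j + 1) = (θ : K) * a ^ 3 ^ (4 * j + 1) := by
        intro a
        rw [mul_pow]
        congr 1
        rw [← Units.val_pow_eq_pow_val]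
        congr 1
        rw [inv_pow, ← pow_mul, ← pow_succ', inv_eq_iff_mul_eq_one, ← pow_succ]
        exact hθm
      have h2 : ∀ a : K, ((θ : K) * a) ^ 3 ^ (4 * j + 3) = (((θ ^ 3)⁻¹ : Kˣ) : K) * a ^ 3 ^ (4 * j + 3) := by
        intro a
        rw [mul_pow]
        congr 1
        rw [← Units.val_pow_eq_pow_val]
        congr 1
        rw [eq_inv_iff_mul_eq_one, ← pow_add, show 3 ^ (4 * j + 3) + 3 = (3 ^ (4 * j + 2) + 1) * 3 by ring, pow_mul, hθm,
          one_pow]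
      show tor F s (sl j (tor F θ u)) = tor F θ (tor F s (sl j u))
      rw [tor_apply, tor_apply, tor_apply, tor_apply]
      apply Prod.ext
      · show (((s ^ 3)⁻¹ : Kˣ) : K) * ((θ : K) * u.2) ^ 3 ^ (4 * j + 3) =
          (((θ ^ 3)⁻¹ : Kˣ) : K) * ((((s ^ 3)⁻¹ : Kˣ) : K) * u.2 ^ 3 ^ (4 * j + 3))
        rw [h2]
        exact mul_left_comm _ _ _
      · show (s : K) * ((((θ ^ 3)⁻¹ : Kˣ) : K) * u.1) ^ 3 ^ (4 * j + 1) = (θ : K) * ((s : K) * u.1 ^ 3 ^ (4 * j + 1))
        rw [h1]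
        exact mul_left_comm _ _ _

end Model

end Cfsg.Agent.H755.SU3
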