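import Mathlib
import Cfsg.Agent.ClassicalGeometry.HermOrthonormal

/-!
# The hermitian form `Tr (x z'³) + Tr (z³ x'⁹)` on `K × K`, `K` an extension of the field with nine elements (helper755, for S3464)
-/

set_option autoImplicit false

namespace Cfsg.Agent.H755.SU3

section Tr

variable {F K : Type*} [Field F] [Fintype F] [Field K] [Algebra F K] [Finite K]

theorem charP_three (hF : Fintype.card F = 9) : CharP F 3 := by
  have := Fact.mk Nat.prime_three
  exact charP_of_card_eq_prime_pow (p := 3) (f := 2) (by rw [hF]; norm_num)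

theorem pow_nine (hF : Fintype.card F = 9) (a : F) : a ^ 9 = a := by
  rw [← hF]; exact FiniteField.pow_card a

theorem pow_nine_pow (hF : Fintype.card F = 9) (a : F) (k : ℕ) : a ^ 9 ^ k = a := by
  induction k with
  | zero => rw [pow_zero, pow_one]
  | succ k ih => rw [pow_succ, pow_mul, ih, pow_nine hF]

theorem tr_cube (hF : Fintype.card F = 9) (w : K) :
    Algebra.trace F K (w ^ 3) = (Algebra.trace F K w) ^ 3 := by
  have := charP_three hF
  have := Fact.mk Nat.prime_three
  have : CharP K 3 := charP_of_injective_algebraMap (algebraMap F K).injective 3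
  apply (algebraMap F K).injective
  rw [map_pow (algebraMap F K), FiniteField.algebraMap_trace_eq_sum_pow, FiniteField.algebraMap_trace_eq_sum_pow, sum_pow_char]
  refine Finset.sum_congr rfl fun i _ => ?_
  rw [← pow_mul, ← pow_mul, mul_comm]

theorem tr_nine (hF : Fintype.card F = 9) (w : K) :
    Algebra.trace F K (w ^ 9) = Algebra.trace F K w := by
  have h : w ^ 9 = (w ^ 3) ^ 3 := by rw [← pow_mul]
  rw [h, tr_cube hF, tr_cube hF, ← pow_mul]
  exact pow_nine hF _

theorem tr_nine_pow (hF : Fintype.card F = 9) (w : K) (k : ℕ) :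
    Algebra.trace F K (w ^ 9 ^ k) = Algebra.trace F K w := by
  induction k with
  | zero => rw [pow_zero, pow_one]
  | succ k ih => rw [pow_succ, pow_mul, tr_nine hF, ih]

theorem add_cube (hF : Fintype.card F = 9) (a b : K) : (a + b) ^ 3 = a ^ 3 + b ^ 3 := by
  have := charP_three hF
  have := Fact.mk Nat.prime_three
  have : CharP K 3 := charP_of_injective_algebraMap (algebraMap F K).injective 3
  exact add_pow_char a b 3

theorem add_nine (hF : Fintype.card F = 9) (a b : K) : (a + b) ^ 9 = a ^ 9 + b ^ 9 := by
  have h : ∀ c : K, c ^ 9 = (c ^ 3) ^ 3 := fun c => by rw [← pow_mul]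
  rw [h, h, h, add_cube hF, add_cube hF]

/-- Cubing. -/
noncomputable def cube (hF : Fintype.card F = 9) : F →+* F :=
  have := charP_three hF
  have := Fact.mk Nat.prime_three
  frobenius F 3

theorem cube_apply (hF : Fintype.card F = 9) (a : F) : cube hF a = a ^ 3 := rfl

theorem cube_cube (hF : Fintype.card F = 9) (a : F) : cube hF (cube hF a) = a := by
  rw [cube_apply, cube_apply, ← pow_mul]
  exact pow_nine hF a

theorem cube_ne (hF : Fintype.card F = 9) : cube hF ≠ RingHom.id F := by
  intro h
  have h1 : ∀ a : F, a ^ 3 = a := fun a => by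
    have := DFunLike.congr_fun h a
    rwa [cube_apply, RingHom.id_apply] at this
  obtain ⟨g, hg⟩ := IsCyclic.exists_ofOrder_eq_natCard (α := Fˣ)
  rw [Nat.card_units, Nat.card_eq_fintype_card, hF] at hg
  have h2 : g ^ 2 = 1 := by
    apply Units.ext
    have h3 := h1 g
    have h4 : (g : F) ^ 2 * g = 1 * g := by rw [one_mul, ← pow_succ, h3]
    have h5 := mul_right_cancel₀ g.ne_zero h4
    rw [Units.val_pow_eq_pow_val, h5, Units.val_one]
  have h3 := Nat.le_of_dvd (by norm_num) (orderOf_dvd_of_pow_eq_one h2)
  omega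

/-- The hermitian form, conjugate linear in the first variable. -/
noncomputable def B (K : Type*) [Field K] [Algebra F K] [Finite K] (hF : Fintype.card F = 9) :
    (K × K) →ₛₗ[cube hF] (K × K) →ₗ[F] F :=
  LinearMap.mk₂'ₛₗ (cube hF) (RingHom.id F)
    (fun u v => Algebra.trace F K (v.1 * u.2 ^ 3) + Algebra.trace F K (u.1 ^ 3 * v.2 ^ 9))
    (fun u u' v => by
      rw [Prod.snd_add, Prod.fst_add, add_cube hF, add_cube hF, mul_add, add_mul, map_add, map_add]; ring)
    (fun c u v => by
      rw [Prod.smul_snd, Prod.smul_fst, smul_pow, smul_pow, mul_smul_comm, smul_mul_assoc, map_smul, map_smul,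
        cube_apply, smul_add])
    (fun u v v' => by
      rw [Prod.snd_add, Prod.fst_add, add_nine hF, mul_add, add_mul, map_add, map_add]; ring)
    (fun c u v => by
      rw [Prod.smul_snd, Prod.smul_fst, smul_pow, mul_smul_comm, smul_mul_assoc, map_smul, map_smul,
        pow_nine hF, RingHom.id_apply, smul_add])

theorem B_apply (hF : Fintype.card F = 9) (u v : K × K) :
    B K hF u v = Algebra.trace F K (v.1 * u.2 ^ 3) + Algebra.trace F K (u.1 ^ 3 * v.2 ^ 9) := rfl

theorem B_symm (hF : Fintype.card F = 9) : (B K hF).IsSymm := by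
  refine ⟨fun u v => ?_⟩
  rw [cube_apply, B_apply, B_apply, add_cube (F := F) (K := F) hF, ← tr_cube hF, ← tr_cube hF, add_comm]
  congr 1
  · rw [← tr_nine hF (u.1 * v.2 ^ 3)]
    congr 1
    ring
  · congr 1
    ring

theorem B_sep (hF : Fintype.card F = 9) : (B K hF).SeparatingLeft := by
  intro u hu
  have hfd : FiniteDimensional F K := Module.Finite.of_finite
  have : Algebra.IsSeparable F K := inferInstance
  have hnd := traceForm_nondegenerate F K
  have h1 : ∀ w : K, (∀ z : K, Algebra.trace F K (w * z) = 0) → w = 0 := fun w hw =>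
    hnd.1 w fun z => by rw [Algebra.traceForm_apply]; exact hw z
  have h2 : u.2 ^ 3 = 0 := by
    apply h1
    intro z
    have := hu (z, 0)
    rw [B_apply] at this
    rwa [zero_pow (by norm_num), mul_zero, map_zero, add_zero, mul_comm] at this
  have h3 : u.1 ^ 27 = 0 := by
    -- `Tr (u₁³ z⁹) = Tr (u₁ ^ 3 z ^ 9)`; raise `z` to the inverse power
    have hch := charP_three hF
    have := Fact.mk Nat.prime_three
    have : CharP K 3 := charP_of_injective_algebraMap (algebraMap F K).injective 3
    have h4 : u.1 ^ 3 = 0 := by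
      apply h1
      intro z
      obtain ⟨z', hz'⟩ : ∃ z' : K, z' ^ 9 = z := by
        have hb : Function.Bijective (frobenius K 3) := bijective_frobenius K 3
        obtain ⟨a, ha⟩ := hb.2 z
        obtain ⟨b, hb⟩ := hb.2 a
        refine ⟨b, ?_⟩
        rw [frobenius_def] at ha hb
        rw [show (9 : ℕ) = 3 * 3 by norm_num, pow_mul, hb, ha]
      have := hu (0, z')
      rw [B_apply] at this
      rwa [zero_mul, map_zero, zero_add, hz'] at this
    rw [show (27 : ℕ) = 3 * 9 by norm_num, pow_mul, h4, zero_pow (by norm_num)]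
  exact Prod.ext (pow_eq_zero_iff (by norm_num) |>.1 h3) (pow_eq_zero_iff (by norm_num) |>.1 h2)

end Tr

end Cfsg.Agent.H755.SU3
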